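import Groth.Agent.L23.HCmp.Site
import Groth.Agent.L27.Fppf.Elem
import Mathlib.AlgebraicGeometry.Sites.BigZariski
import Mathlib.CategoryTheory.Sites.Canonical

/-!
# The sheaf condition on the big h site
-/

universe w u

open CategoryTheory CategoryTheory.Limits AlgebraicGeometry Opposite

set_option autoImplicit false
set_option backward.isDefEq.respectTransparency false
set_option backward.isDefEq.respectTransparency.types false
set_option linter.style.haveILetI false

noncomputable section

namespace Groth.L23.HCmp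

variable {S : Scheme.{u}}

/-- an open subscheme as an object over the base -/
def openMor {T : Over S} {W : Scheme.{u}} (m : W ⟶ T.left) : Over.mk (m ≫ T.hom) ⟶ T := Over.homMk m rfl

theorem mem_zariski_over {T : Over S} {R : Sieve T}
    (h : ∀ t : T.left, ∃ W : T.left.Opens, t ∈ W ∧ R (openMor W.ι)) : R ∈ Scheme.zariskiTopology.over S T :=
  (Groth.L27.Fppf.mem_grothendieck (P := @IsOpenImmersion)).2 fun t => by
    obtain ⟨W, htW, hW⟩ := h t
    exact ⟨_, openMor W.ι, ⟨t, htW⟩, hW, inferInstanceAs (IsOpenImmersion W.ι), rfl⟩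

variable {F : (Over S)ᵒᵖ ⥤ Type w}

theorem zariski_over_le (hZ : Presieve.IsSheaf (Scheme.zariskiTopology.over S) F) :
    Scheme.zariskiTopology.over S ≤ Sheaf.finestTopologySingle F :=
  fun _ _ hR Y f => hZ _ ((Scheme.zariskiTopology.over S).pullback_stable f hR)

theorem isSheafFor_of_mem {T : Over S} {R : Sieve T} (h : R ∈ Sheaf.finestTopologySingle F T) :
    Presieve.IsSheafFor F R.arrows := by simpa using h T (𝟙 T)

/-- a sieve is covering as soon as its restrictions to affines satisfy the sheaf condition -/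
theorem mem_of_affine (hZ : Presieve.IsSheaf (Scheme.zariskiTopology.over S) F) {T : Over S} (Sv : Sieve T)
    (h : ∀ (U : Over S), IsAffine U.left → ∀ g : U ⟶ T, Presieve.IsSheafFor F (Sv.pullback g).arrows) :
    Sv ∈ Sheaf.finestTopologySingle F T := by
  intro Z g
  let U : ∀ i, Over S := fun i : Z.left.affineCover.I₀ => Over.mk (Z.left.affineCover.f i ≫ Z.hom)
  have key : ∀ (Z' : Over S) (g' : Z' ⟶ T), Presieve.IsSeparatedFor F (Sv.pullback g').arrows := by
    intro Z' g' x t₁ t₂ h₁ h₂
    let R : Sieve Z' :=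
      { arrows := fun W m => ∃ (i : Z'.left.affineCover.I₀) (k : W ⟶ Over.mk (Z'.left.affineCover.f i ≫ Z'.hom)),
          k ≫ openMor (Z'.left.affineCover.f i) = m
        downward_closed := by
          rintro W W' m ⟨i, k, rfl⟩ c
          exact ⟨i, c ≫ k, Category.assoc _ _ _⟩ }
    have hR : R ∈ Scheme.zariskiTopology.over S Z' :=
      (Groth.L27.Fppf.mem_grothendieck (P := @IsOpenImmersion)).2 fun t => by
        obtain ⟨i, y, hy⟩ := Z'.left.affineCover.exists_eq t
        exact ⟨_, openMor (Z'.left.affineCover.f i), y, ⟨i, 𝟙 _, Category.id_comp _⟩,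
          inferInstanceAs (IsOpenImmersion (Z'.left.affineCover.f i)), hy⟩
    refine (hZ R hR).isSeparatedFor.ext fun W m hm => ?_
    obtain ⟨i, k, rfl⟩ := hm
    rw [op_comp, Functor.map_comp_apply, Functor.map_comp_apply]
    refine congrArg (F.map k.op) ?_
    refine (h (Over.mk (Z'.left.affineCover.f i ≫ Z'.hom)) (inferInstanceAs (IsAffine (Z'.left.affineCover.X i)))
      (openMor (Z'.left.affineCover.f i) ≫ g')).isSeparatedFor.ext fun V n hn => ?_
    have hn' : (Sv.pullback g').arrows (n ≫ openMor (Z'.left.affineCover.f i)) := by simpa using hn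
    rw [← Functor.map_comp_apply, ← Functor.map_comp_apply, ← op_comp]
    exact (h₁ _ hn').trans (h₂ _ hn').symm
  intro x hx
  have haff : ∀ i, ∃ t : F.obj (op (U i)), ∀ W (k : W ⟶ U i)
      (hk : (Sv.pullback g).arrows (k ≫ openMor (Z.left.affineCover.f i))), F.map k.op t = x _ hk := by
    intro i
    let x' : Presieve.FamilyOfElements F (Sv.pullback (openMor (Z.left.affineCover.f i) ≫ g)).arrows :=
      fun W k hk => x (k ≫ openMor (Z.left.affineCover.f i)) (by simpa using hk)
    have hx' : x'.Compatible := fun _ _ _ g₁ g₂ f₁ f₂ h₁ h₂ e => hx g₁ g₂ _ _ (by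
      rw [← Category.assoc, e, Category.assoc])
    obtain ⟨t, ht, -⟩ := h (U i) (inferInstanceAs (IsAffine (Z.left.affineCover.X i)))
      (openMor (Z.left.affineCover.f i) ≫ g) x' hx'
    exact ⟨t, fun W k hk => ht k (by simpa using hk)⟩
  choose t ht using haff
  let P : Presieve Z := Presieve.ofArrows U fun i => openMor (Z.left.affineCover.f i)
  have hP : Sieve.generate P ∈ Scheme.zariskiTopology.over S Z :=
    (Groth.L27.Fppf.mem_grothendieck (P := @IsOpenImmersion)).2 fun z => by
      obtain ⟨i, y, hy⟩ := Z.left.affineCover.exists_eq z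
      exact ⟨_, openMor (Z.left.affineCover.f i), y, ⟨_, 𝟙 _, _, ⟨i⟩, Category.id_comp _⟩,
        inferInstanceAs (IsOpenImmersion (Z.left.affineCover.f i)), hy⟩
  have hcomp : Presieve.Arrows.Compatible F (fun i => openMor (T := Z) (Z.left.affineCover.f i)) t := by
    intro i j W gi gj e
    refine (key W (gi ≫ openMor (Z.left.affineCover.f i) ≫ g)).ext fun V k hk => ?_
    have hk' : (Sv.pullback g).arrows ((k ≫ gi) ≫ openMor (Z.left.affineCover.f i)) := by simpa using hk
    have hk'' : (Sv.pullback g).arrows ((k ≫ gj) ≫ openMor (Z.left.affineCover.f j)) := by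
      rw [Category.assoc, ← e, ← Category.assoc]; exact hk'
    rw [← Functor.map_comp_apply, ← Functor.map_comp_apply, ← op_comp, ← op_comp, ht i _ _ hk', ht j _ _ hk'']
    congr 1
    rw [Category.assoc, e, Category.assoc]
  obtain ⟨z, hz, -⟩ := (Presieve.isSheafFor_arrows_iff _ _).1
    ((Presieve.isSheafFor_iff_generate P).2 (hZ _ hP)) t hcomp
  have hext : ∀ W (f : W ⟶ Z) (hf : (Sv.pullback g).arrows f), F.map f.op z = x f hf := by
    intro W f hf
    refine (hZ _ ((Scheme.zariskiTopology.over S).pullback_stable f hP)).isSeparatedFor.ext fun V k hk => ?_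
    obtain ⟨Y, m, _, ⟨i⟩, hm⟩ := hk
    rw [← Functor.map_comp_apply, ← op_comp, ← hm, op_comp, Functor.map_comp_apply, hz]
    have hm' : (Sv.pullback g).arrows (m ≫ openMor (Z.left.affineCover.f i)) := by
      rw [hm]; exact (Sv.pullback g).downward_closed hf k
    rw [ht i _ m hm']
    have h2 := hx (𝟙 V) k hm' hf (by rw [Category.id_comp, hm])
    simpa using h2
  exact ⟨z, hext, fun y hy => (key Z g).ext fun W f hf => (hy f hf).trans (hext W f hf).symm⟩

/-- The sheaf criterion for the big h site. -/
theorem isSheaf_Jh_iff (F : (Over S)ᵒᵖ ⥤ Type w) :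
    Presieve.IsSheaf (HTop.Jh S) F ↔ (Presieve.IsSheaf (Scheme.zariskiTopology.over S) F ∧
      ∀ (U V : Over S) (f : V ⟶ U), IsAffine U.left → IsProper f.left → Surjective f.left →
        LocallyOfFinitePresentation f.left → Presieve.IsSheafFor F (Presieve.singleton f)) := by
  constructor
  · intro hF
    refine ⟨Presieve.isSheaf_of_le F (BigSite.J_mono
      (BigSite.zariskiPrecoverage_le_etalePrecoverage.trans etalePrecoverage_le_hPrecoverage) S) hF,
      fun U V f _ hp hs hfp => (Presieve.isSheafFor_iff_generate _).2 (hF _ ?_)⟩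
    haveI := hp
    haveI := hs
    rw [GrothendieckTopology.mem_over_iff]
    refine HTop.hTopology.superset_covering ?_ (Precoverage.generate_mem_toGrothendieck
      ((HTop.presieve₀_mem_hPrecoverage_iff (PreZeroHypercover.singleton.{u} f.left)).2
        ⟨fun _ => hfp, Groth.L28.VTop.isVCover_of_universallyClosed _
          (fun _ => inferInstanceAs (UniversallyClosed f.left)) fun t => ⟨PUnit.unit, f.left.surjective t⟩⟩))
    rw [Sieve.generate_le_iff]
    rintro W k ⟨⟩
    refine (Sieve.overEquiv_iff (Sieve.generate (Presieve.singleton f)) _).2 ?_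
    exact ⟨V, Over.homMk (𝟙 _) ((Category.id_comp _).trans (Over.w f).symm), f, ⟨⟩,
      Over.OverMorphism.ext (Category.id_comp _)⟩
  · rintro ⟨hZ, hp⟩
    suffices hle : HTop.Jh S ≤ Sheaf.finestTopologySingle F from fun T R hR => isSheafFor_of_mem (hle T hR)
    have hprop : ∀ (U V : Over S) (f : V ⟶ U), IsProper f.left → Surjective f.left →
        LocallyOfFinitePresentation f.left → Sieve.generate (Presieve.singleton f) ∈ Sheaf.finestTopologySingle F U := by
      intro U V f h1 h2 h3
      refine mem_of_affine hZ _ fun U' hU' g => ?_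
      haveI : HasPullback g.left f.left := inferInstance
      let f' : Over.mk (pullback.fst g.left f.left ≫ U'.hom) ⟶ U' := Over.homMk (pullback.fst g.left f.left) rfl
      have he : (Sieve.generate (Presieve.singleton f)).pullback g = Sieve.generate (Presieve.singleton f') := by
        ext W k
        constructor
        · rintro ⟨_, m, _, ⟨⟩, hm⟩
          refine ⟨_, Over.homMk (pullback.lift k.left m.left (congrArg CommaMorphism.left hm).symm) ?_, f', ⟨⟩, ?_⟩
          · show pullback.lift _ _ _ ≫ pullback.fst g.left f.left ≫ U'.hom = W.hom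
            rw [pullback.lift_fst_assoc, Over.w k]
          · exact Over.OverMorphism.ext (pullback.lift_fst _ _ _)
        · rintro ⟨_, m, _, ⟨⟩, rfl⟩
          refine ⟨V, Over.homMk (m.left ≫ pullback.snd g.left f.left) ?_, f, ⟨⟩, ?_⟩
          · show (m.left ≫ pullback.snd g.left f.left) ≫ V.hom = W.hom
            rw [← Over.w f, Category.assoc, ← reassoc_of% pullback.condition, Over.w g]
            exact Over.w m
          · refine Over.OverMorphism.ext ?_
            show (m.left ≫ pullback.snd g.left f.left) ≫ f.left = (m.left ≫ pullback.fst g.left f.left) ≫ g.left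
            rw [Category.assoc, Category.assoc, pullback.condition]
      rw [he]
      refine (Presieve.isSheafFor_iff_generate _).1 (hp U' _ f' hU' ?_ ?_ ?_)
      · exact inferInstanceAs (IsProper (pullback.fst g.left f.left))
      · exact inferInstanceAs (Surjective (pullback.fst g.left f.left))
      · exact inferInstanceAs (LocallyOfFinitePresentation (pullback.fst g.left f.left))
    intro T R hR
    choose V P h htV hp' hs hfp hW using exists_proper_of_mem hR
    let Rv : Sieve T := Sieve.generate (Presieve.ofArrows _ fun t => openMor (T := T) (V t).ι)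
    have hRv : Rv ∈ Sheaf.finestTopologySingle F T := zariski_over_le hZ T (mem_zariski_over fun t =>
      ⟨V t, htV t, ⟨_, 𝟙 _, _, ⟨t⟩, Category.id_comp _⟩⟩)
    refine (Sheaf.finestTopologySingle F).transitive hRv R ?_
    rintro Y _ ⟨_, m, _, ⟨t⟩, rfl⟩
    rw [Sieve.pullback_comp]
    refine (Sheaf.finestTopologySingle F).pullback_stable m ?_
    let hh : Over.mk (h t ≫ (V t).ι ≫ T.hom) ⟶ Over.mk ((V t).ι ≫ T.hom) := Over.homMk (h t) rfl
    refine (Sheaf.finestTopologySingle F).transitive (hprop _ _ hh (hp' t) (hs t) (hfp t)) _ ?_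
    rintro Y' _ ⟨_, m', _, ⟨⟩, rfl⟩
    rw [Sieve.pullback_comp]
    refine (Sheaf.finestTopologySingle F).pullback_stable m' (zariski_over_le hZ _ (mem_zariski_over fun x => ?_))
    obtain ⟨W, hxW, hRW⟩ := hW t x
    refine ⟨W, hxW, ?_⟩
    simp only [Sieve.pullback_apply]
    let c : Over.mk (W.ι ≫ h t ≫ (V t).ι ≫ T.hom) ⟶ Over.mk ((W.ι ≫ h t ≫ (V t).ι) ≫ T.hom) :=
      Over.homMk (𝟙 _) (by simp)
    refine (show (openMor W.ι ≫ hh) ≫ openMor (V t).ι = c ≫ Over.homMk (W.ι ≫ h t ≫ (V t).ι) rfl from
      Over.OverMorphism.ext ?_) ▸ R.downward_closed hRW c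
    show (W.ι ≫ h t) ≫ (V t).ι = 𝟙 _ ≫ W.ι ≫ h t ≫ (V t).ι
    simp

end Groth.L23.HCmp

end
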