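import Groth.Agent.L23.VRefine.Refine
import Groth.Agent.L23.PhCmp.Site
import Groth.Agent.S8976

/-!
# The h topology against the étale topology
-/

universe u

open CategoryTheory CategoryTheory.Limits AlgebraicGeometry Opposite

set_option autoImplicit false
set_option backward.isDefEq.respectTransparency false
set_option backward.isDefEq.respectTransparency.types false
set_option linter.style.haveILetI false
set_option linter.unusedSectionVars false

namespace Groth.L23.HCmp

theorem isHCover_of_isPhCover {T : Scheme.{u}} {E : PreZeroHypercover.{u} T}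
    (hfp : ∀ i, LocallyOfFinitePresentation (E.f i)) (hE : HTop.IsPhCover E) : HTop.IsHCover E :=
  ⟨hfp, (Groth.Agent.S8976.result E hfp).1 hE⟩

theorem fppfPrecoverage_le_hPrecoverage : Scheme.fppfPrecoverage ≤ HTop.hPrecoverage.{u} := fun T R hR => by
  obtain ⟨𝒰, rfl⟩ := Scheme.exists_cover_of_mem_pretopology hR
  have hfp := fun i => (𝒰.map_prop i).2
  have hph := Groth.Agent.S7190.result 𝒰.toPreZeroHypercover (fun i => (𝒰.map_prop i).1) hfp
    fun t => ⟨_, 𝒰.covers t⟩
  exact (HTop.presieve₀_mem_hPrecoverage_iff 𝒰.toPreZeroHypercover).2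
    ⟨hfp, (Groth.Agent.S8976.result _ hfp).1 hph⟩

theorem etalePrecoverage_le_hPrecoverage : Scheme.etalePrecoverage ≤ HTop.hPrecoverage.{u} :=
  BigSite.etalePrecoverage_le_fppfPrecoverage.trans fppfPrecoverage_le_hPrecoverage

instance epsCont_h (S : Scheme.{u}) : BigSite.EpsCont Scheme.etalePrecoverage HTop.hPrecoverage S :=
  BigSite.epsCont_of_le etalePrecoverage_le_hPrecoverage S

instance aEtCont_h (S : Scheme.{u}) : BigSite.AEtCont HTop.hPrecoverage S :=
  BigSite.aEtCont_of_le etalePrecoverage_le_hPrecoverage S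

theorem isHCover_id (T : Scheme.{u}) : HTop.IsHCover (PreZeroHypercover.singleton.{u} (𝟙 T)) :=
  isHCover_of_isPhCover (fun _ => inferInstanceAs (LocallyOfFinitePresentation (𝟙 T)))
    (Groth.L23.PhCmp.isPhCover_id T)

/-- sieves containing an h covering family -/
def refTop : GrothendieckTopology Scheme.{u} where
  sieves T := {R | ∃ E : PreZeroHypercover.{u + 1} T, HTop.IsHCover E ∧ ∀ i, R (E.f i)}
  top_mem' T := ⟨(PreZeroHypercover.singleton.{u} (𝟙 T)).shrink,
    (HTop.isHCover_shrink_iff _).2 (isHCover_id T), fun i => trivial⟩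
  pullback_stable' T T' R g := by
    rintro ⟨E, hE, hR⟩
    refine ⟨E.pullback₁ g, ⟨fun i => ?_, Groth.L28.VTop.isVCover_pullback₁ g hE.2⟩, fun i => ?_⟩
    · haveI := hE.1 i
      exact inferInstanceAs (LocallyOfFinitePresentation (pullback.fst g (E.f i)))
    show R (pullback.fst g (E.f i) ≫ g)
    rw [pullback.condition]
    exact R.downward_closed (hR i) _
  transitive' T S := by
    rintro ⟨E, hE, hS⟩ R h
    choose F hF hR using fun i => h (hS i)
    refine ⟨E.bind F, ⟨fun ij => ?_, Groth.L28.VTop.isVCover_bind hE.2 fun i => (hF i).2⟩, fun ij => hR ij.1 ij.2⟩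
    haveI := hE.1 ij.1
    haveI := (hF ij.1).1 ij.2
    exact inferInstanceAs (LocallyOfFinitePresentation ((F ij.1).f ij.2 ≫ E.f ij.1))

theorem exists_isHCover_of_mem {T : Scheme.{u}} {R : Sieve T} (hR : R ∈ HTop.hTopology T) :
    ∃ E : PreZeroHypercover.{u + 1} T, HTop.IsHCover E ∧ ∀ i, R (E.f i) := by
  have h : HTop.hPrecoverage.toGrothendieck ≤ refTop := by
    rw [Precoverage.toGrothendieck_le_iff_le_toPrecoverage]
    intro T P hP
    obtain ⟨E, hE, rfl⟩ := PreZeroHypercoverFamily.mem_precoverage_iff.1 hP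
    exact ⟨E, hE, fun i => ⟨_, 𝟙 _, _, Presieve.ofArrows.mk i, Category.id_comp _⟩⟩
  exact h T hR

/-- an h covering sieve contains, over an affine neighbourhood of every point, a proper surjection of finite
presentation, locally on its source -/
theorem exists_proper_of_mem {S : Scheme.{u}} {T : Over S} {R : Sieve T} (hR : R ∈ QuotSh.J HTop.hPrecoverage S T)
    (t : T.left) :
    ∃ (V : T.left.Opens) (P : Scheme.{u}) (h : P ⟶ (V : Scheme.{u})), t ∈ V ∧ IsProper h ∧ Surjective h ∧
      LocallyOfFinitePresentation h ∧ ∀ x : P, ∃ W : P.Opens, x ∈ W ∧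
        R (Over.homMk (W.ι ≫ h ≫ V.ι) rfl : Over.mk ((W.ι ≫ h ≫ V.ι) ≫ T.hom) ⟶ T) := by
  rw [GrothendieckTopology.mem_over_iff] at hR
  obtain ⟨E, hE, hRE⟩ := exists_isHCover_of_mem hR
  obtain ⟨V, hV, htV, -⟩ := exists_isAffineOpen_mem_and_subset (X := T.left) (x := t) (U := ⊤) trivial
  haveI : IsAffine (V : Scheme.{u}) := hV
  obtain ⟨P, h, hp, hs, hfp, hP⟩ := Groth.L23.VRefine.exists_proper_refining (E.pullback₁ V.ι)
    (fun i => haveI := hE.1 i; show LocallyOfFinitePresentation (pullback.fst V.ι (E.f i)) from inferInstance)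
    (Groth.L28.VTop.isVCover_pullback₁ V.ι hE.2)
  refine ⟨V, P, h, htV, hp, hs, hfp, fun x => ?_⟩
  obtain ⟨W, -, hxW, i, k, hk⟩ := hP x
  refine ⟨W, hxW, (Sieve.overEquiv_iff R _).1 ?_⟩
  change k ≫ pullback.fst V.ι (E.f i) = W.ι ≫ h at hk
  have e : W.ι ≫ h ≫ V.ι = (k ≫ pullback.snd V.ι (E.f i)) ≫ E.f i := by
    rw [← Category.assoc, ← hk]
    exact (Category.assoc _ _ _).trans ((congrArg (k ≫ ·) pullback.condition).trans (Category.assoc _ _ _).symm)
  exact e ▸ (Sieve.overEquiv T R).downward_closed (hRE i) _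

/-- a proper surjection of finite presentation, pulled back to any object, is covering -/
theorem section_sieve_mem {S X : Scheme.{u}} (f : X ⟶ S) [IsProper f] [Surjective f] [LocallyOfFinitePresentation f]
    (T : Over S) :
    ∃ R ∈ QuotSh.J HTop.hPrecoverage S T, ∀ ⦃T' : Over S⦄ (a : T' ⟶ T), R a →
      ∃ s : T'.left ⟶ X, s ≫ f = T'.hom := by
  let R : Sieve T :=
    { arrows := fun T' _ => ∃ s : T'.left ⟶ X, s ≫ f = T'.hom
      downward_closed := by
        rintro T' T'' a ⟨s, hs⟩ b
        exact ⟨b.left ≫ s, by rw [Category.assoc, hs, Over.w b]⟩ }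
  refine ⟨R, ?_, fun T' a ha => ha⟩
  rw [GrothendieckTopology.mem_over_iff]
  let q := pullback.fst T.hom f
  have hE : HTop.IsHCover (PreZeroHypercover.singleton.{u} q) :=
    ⟨fun _ => inferInstanceAs (LocallyOfFinitePresentation q), Groth.L28.VTop.isVCover_of_universallyClosed _
      (fun _ => inferInstanceAs (UniversallyClosed q)) fun t => ⟨PUnit.unit, q.surjective t⟩⟩
  refine HTop.hTopology.superset_covering ?_
    (Precoverage.generate_mem_toGrothendieck ((HTop.presieve₀_mem_hPrecoverage_iff _).2 hE))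
  rw [Sieve.generate_le_iff]
  rintro W k ⟨⟩
  refine (Sieve.overEquiv_iff R _).2 ⟨pullback.snd T.hom f, ?_⟩
  exact pullback.condition.symm

end Groth.L23.HCmp
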