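import Groth.Agent.L23.PhCmp.Zero
import Groth.Agent.L23.HCmp.Core

/-!
# Sheaves from the small étale site are h sheaves
-/

universe u

open CategoryTheory CategoryTheory.Limits AlgebraicGeometry Opposite

set_option autoImplicit false
set_option backward.defeqAttrib.useBackward true
set_option backward.isDefEq.respectTransparency false
set_option backward.isDefEq.respectTransparency.types false
set_option linter.style.haveILetI false
set_option linter.unusedSectionVars false

noncomputable section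

namespace Groth.L23.HCmp

open Groth.L23.PhCmp (existsUnique_proper)
open Groth.L10.EtDescent (InImg exists_preimage_sec inImg_pullBig)
open Groth.L27.FppfCmp (secF)

local notation "Ke" => Scheme.etalePrecoverage
local notation "Kh" => HTop.hPrecoverage

variable {S : Scheme.{u}}

theorem map_map {C : Type*} [Category C] (F : Cᵒᵖ ⥤ AddCommGrpCat.{u + 1}) {A B D : C} (a : A ⟶ B) (b : B ⟶ D)
    (x : F.obj (op D)) : F.map a.op (F.map b.op x) = F.map (a ≫ b).op x :=
  (Functor.map_comp_apply F b.op a.op x).symm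

/-- restriction along the structure map of a covering member, inside a scheme over an open -/
theorem map_eq_of_sep {G : BigSite.Ab Ke S} (hG : InImg G) {T : Over S} {V : T.left.Opens} {P : Scheme.{u}}
    (h : P ⟶ (V : Scheme.{u})) [IsProper h] [Surjective h] (a b : G.obj.obj (op (Over.mk (V.ι ≫ T.hom))))
    (hab : G.obj.map (Over.homMk h rfl : Over.mk (h ≫ V.ι ≫ T.hom) ⟶ Over.mk (V.ι ≫ T.hom)).op a =
      G.obj.map (Over.homMk h rfl : Over.mk (h ≫ V.ι ≫ T.hom) ⟶ Over.mk (V.ι ≫ T.hom)).op b) : a = b := by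
  let e := V.ι ≫ T.hom
  let k : Over.mk e ≅ (Over.map e).obj (Over.mk (𝟙 (V : Scheme.{u}))) := Over.isoMk (Iso.refl _) (by simp [e])
  have key := (existsUnique_proper h (G := (BigSite.pullBig Ke e AddCommGrpCat.{u + 1}).obj G) (inImg_pullBig e hG)).1
    (G.obj.map k.inv.op a) (G.obj.map k.inv.op b) (by
      show G.obj.map ((Over.map e).map _).op (G.obj.map k.inv.op a) =
        G.obj.map ((Over.map e).map _).op (G.obj.map k.inv.op b)
      have hm : (Over.map e).map (Over.homMk h (Category.comp_id h) : Over.mk h ⟶ Over.mk (𝟙 (V : Scheme.{u}))) ≫ k.inv =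
          (Over.homMk h rfl : Over.mk (h ≫ V.ι ≫ T.hom) ⟶ Over.mk (V.ι ≫ T.hom)) :=
        Over.OverMorphism.ext (Category.comp_id h)
      simp only [← ConcreteCategory.comp_apply, ← Functor.map_comp, ← op_comp]
      refine (congrArg (fun m : Over.mk (h ≫ V.ι ≫ T.hom) ⟶ Over.mk (V.ι ≫ T.hom) => G.obj.map m.op a) hm).trans
        (hab.trans (congrArg (fun m : Over.mk (h ≫ V.ι ≫ T.hom) ⟶ Over.mk (V.ι ≫ T.hom) => G.obj.map m.op b) hm).symm))
  have e' := congrArg (G.obj.map k.hom.op) key
  simpa only [← ConcreteCategory.comp_apply, ← Functor.map_comp, ← op_comp, Iso.hom_inv_id, op_id,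
    CategoryTheory.Functor.map_id, ConcreteCategory.id_apply] using e'

/-- A sheaf from the small étale site is a h sheaf. -/
theorem exists_h_iso {G : BigSite.Ab Ke S} (hG : InImg G) :
    ∃ X : BigSite.Ab Kh S, Nonempty (G ≅ (incl S).obj X) := by
  let X := (presheafToSheaf (QuotSh.J Kh S) AddCommGrpCat.{u + 1}).obj G.obj
  let φ : G ⟶ (incl S).obj X := ⟨toSheafify (QuotSh.J Kh S) G.obj⟩
  have nat : ∀ {T T' : Over S} (a : T' ⟶ T) (x : G.obj.obj (op T)),
      φ.hom.app (op T') (G.obj.map a.op x) = X.obj.map a.op (φ.hom.app (op T) x) :=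
    fun a x => NatTrans.naturality_apply φ.hom a.op x
  have hinj : ∀ (T : Over S) (a b : G.obj.obj (op T)), φ.hom.app (op T) a = φ.hom.app (op T) b → a = b := by
    intro T a b hab
    have hR := Presheaf.equalizerSieve_mem (QuotSh.J Kh S) (toSheafify (QuotSh.J Kh S) G.obj) a b hab
    refine eq_of_openCover G a b fun t => ?_
    obtain ⟨V, P, h, htV, hp, hs, hfp, hW⟩ := exists_proper_of_mem hR t
    haveI := hp
    haveI := hs
    haveI := hfp
    refine ⟨V, htV, map_eq_of_sep hG h _ _ (eq_of_openCover G _ _ fun x => ?_)⟩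
    obtain ⟨W, hxW, hRW⟩ := hW x
    refine ⟨W, hxW, ?_⟩
    let g : Over.mk ((W.ι ≫ h ≫ V.ι) ≫ T.hom) ⟶ T := Over.homMk (W.ι ≫ h ≫ V.ι) rfl
    let c : Over.mk (W.ι ≫ h ≫ V.ι ≫ T.hom) ⟶ Over.mk ((W.ι ≫ h ≫ V.ι) ≫ T.hom) :=
      Over.homMk (𝟙 _) (by simp)
    have e : G.obj.map g.op a = G.obj.map g.op b := hRW
    have e' := congrArg (G.obj.map c.op) e
    simp only [← ConcreteCategory.comp_apply, ← Functor.map_comp, ← op_comp] at e'
    show G.obj.map _ (G.obj.map _ (G.obj.map _ a)) = G.obj.map _ (G.obj.map _ (G.obj.map _ b))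
    simp only [← ConcreteCategory.comp_apply, ← Functor.map_comp, ← op_comp]
    refine Eq.trans ?_ (Eq.trans e' ?_)
    · exact congrArg (fun m : Over.mk (W.ι ≫ h ≫ V.ι ≫ T.hom) ⟶ T => G.obj.map m.op a)
        (Over.OverMorphism.ext (by simp [g, c]))
    · exact congrArg (fun m : Over.mk (W.ι ≫ h ≫ V.ι ≫ T.hom) ⟶ T => G.obj.map m.op b)
        (Over.OverMorphism.ext (by simp [g, c]))
  haveI hm : Mono φ := by
    haveI : ∀ T, Mono (φ.hom.app T) := fun T =>
      (AddCommGrpCat.mono_iff_injective _).2 fun a b e => hinj T.unop a b e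
    haveI : Mono φ.hom := NatTrans.mono_of_mono_app _
    exact Functor.mono_of_mono_map (sheafToPresheaf _ _) this
  haveI he : Epi φ := by
    rw [← Sheaf.isLocallySurjective_iff_epi']
    refine ⟨fun {T} z => Groth.L27.Fppf.mem_Jet.2 fun t => ?_⟩
    have hR := Presheaf.imageSieve_mem (QuotSh.J Kh S) (toSheafify (QuotSh.J Kh S) G.obj) z
    obtain ⟨V, P, h, htV, hp, hs, hfp, hW⟩ := exists_proper_of_mem hR t
    haveI := hp
    haveI := hs
    haveI := hfp
    let e := V.ι ≫ T.hom
    let TV : Over S := Over.mk e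
    let TP : Over S := Over.mk (h ≫ e)
    let jV : TV ⟶ T := Over.homMk V.ι rfl
    let jP : TP ⟶ TV := Over.homMk h rfl
    let zV : ((incl S).obj X).obj.obj (op TV) := X.obj.map jV.op z
    let zP : ((incl S).obj X).obj.obj (op TP) := X.obj.map jP.op zV
    have hzero : (cokernel.π φ).hom.app (op TP) zP = 0 := by
      refine eq_of_openCover (cokernel φ) _ _ fun x => ?_
      obtain ⟨W, hxW, y, hy⟩ := hW x
      refine ⟨W, hxW, ?_⟩
      rw [map_zero, ← NatTrans.naturality_apply (cokernel.π φ).hom]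
      let g : Over.mk ((W.ι ≫ h ≫ V.ι) ≫ T.hom) ⟶ T := Over.homMk (W.ι ≫ h ≫ V.ι) rfl
      let c : Over.mk (W.ι ≫ TP.hom) ⟶ Over.mk ((W.ι ≫ h ≫ V.ι) ≫ T.hom) :=
        Over.homMk (𝟙 _) (by simp [TP, e])
      have e1 : ((incl S).obj X).obj.map (Over.homMk W.ι rfl : Over.mk (W.ι ≫ TP.hom) ⟶ TP).op zP =
          φ.hom.app (op (Over.mk (W.ι ≫ TP.hom))) (G.obj.map c.op y) := by
        rw [nat c y]
        refine Eq.trans ?_ (congrArg (X.obj.map c.op) hy).symm
        show X.obj.map _ (X.obj.map jP.op (X.obj.map jV.op z)) = X.obj.map c.op (X.obj.map g.op z)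
        simp only [← ConcreteCategory.comp_apply, ← Functor.map_comp, ← op_comp]
        exact congrArg (fun m : Over.mk (W.ι ≫ TP.hom) ⟶ T => X.obj.map m.op z)
          (Over.OverMorphism.ext (by simp [g, c, jP, jV]))
      refine (congrArg _ e1).trans ?_
      exact ConcreteCategory.congr_hom (congrArg (fun m : G ⟶ cokernel φ => m.hom.app (op (Over.mk (W.ι ≫ TP.hom))))
        (cokernel.condition φ)) _
    obtain ⟨yP, hyP⟩ := exists_preimage_sec (ShortComplex.exact_cokernel φ) TP zP hzero
    change φ.hom.app (op TP) yP = zP at hyP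
    let GV := (BigSite.pullBig Ke e AddCommGrpCat.{u + 1}).obj G
    obtain ⟨x, hx⟩ := (existsUnique_proper h (G := GV) (inImg_pullBig e hG)).2 yP fun W p q => by
      show G.obj.map ((Over.map e).map p).op yP = G.obj.map ((Over.map e).map q).op yP
      have hk : (Over.map e).map p ≫ jP = (Over.map e).map q ≫ jP :=
        Over.OverMorphism.ext ((Over.w p).trans (Over.w q).symm)
      refine hinj _ _ _ ((nat _ _).trans ((Eq.trans ?_ (nat _ _).symm)))
      refine (congrArg _ hyP).trans (Eq.trans ?_ (congrArg _ hyP).symm)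
      show X.obj.map _ (X.obj.map jP.op zV) = X.obj.map _ (X.obj.map jP.op zV)
      exact (map_map X.obj _ jP zV).trans ((congrArg (fun m : (Over.map e).obj W ⟶ TV => X.obj.map m.op zV) hk).trans
        (map_map X.obj _ jP zV).symm)
    let k : TV ⟶ (Over.map e).obj (Over.mk (𝟙 (V : Scheme.{u}))) := Over.homMk (𝟙 _) (by simp [TV, e])
    refine ⟨TV, jV, ⟨t, htV⟩, ⟨G.obj.map k.op x, ?_⟩, inferInstanceAs (AlgebraicGeometry.Etale V.ι), rfl⟩
    show φ.hom.app (op TV) (G.obj.map k.op x) = zV
    have hsep : ∀ u v : X.obj.obj (op TV), X.obj.map jP.op u = X.obj.map jP.op v → u = v := by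
      intro u v huv
      obtain ⟨R, hR2, hR'⟩ := section_sieve_mem h (Over.mk (𝟙 (V : Scheme.{u})))
      let X1 := (BigSite.pullBig Kh e AddCommGrpCat.{u + 1}).obj X
      let i : (Over.map e).obj (Over.mk (𝟙 (V : Scheme.{u}))) ≅ TV := Over.isoMk (Iso.refl _) (by simp [TV, e])
      have hs : Presieve.IsSheaf (QuotSh.J Kh (V : Scheme.{u})) (X1.obj ⋙ forget AddCommGrpCat.{u + 1}) :=
        (isSheaf_iff_isSheaf_of_type _ _).1 ((Presheaf.isSheaf_iff_isSheaf_forget _ X1.obj (forget _)).1 X1.property)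
      have := (hs R hR2).isSeparatedFor.ext (t₁ := X.obj.map i.hom.op u) (t₂ := X.obj.map i.hom.op v) fun W a ha => by
        obtain ⟨s, hs⟩ := hR' a ha
        show X.obj.map ((Over.map e).map a).op (X.obj.map i.hom.op u) =
          X.obj.map ((Over.map e).map a).op (X.obj.map i.hom.op v)
        let sP : (Over.map e).obj W ⟶ TP := Over.homMk s (by
          show s ≫ h ≫ e = W.hom ≫ e
          rw [← Category.assoc, hs])
        have hfac : (Over.map e).map a ≫ i.hom = sP ≫ jP := Over.OverMorphism.ext (by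
          show a.left ≫ 𝟙 _ = s ≫ h
          rw [Category.comp_id, hs, ← Over.w a]
          exact (Category.comp_id _).symm)
        simp only [← ConcreteCategory.comp_apply, ← Functor.map_comp, ← op_comp, hfac]
        simp only [op_comp, Functor.map_comp, ConcreteCategory.comp_apply, huv]
      have e' := congrArg (X.obj.map i.inv.op) this
      simpa only [← ConcreteCategory.comp_apply, ← Functor.map_comp, ← op_comp, Iso.inv_hom_id, op_id,
        CategoryTheory.Functor.map_id, ConcreteCategory.id_apply] using e'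
    refine hsep _ _ (((nat jP _).symm).trans ((congrArg _ ?_).trans hyP))
    refine Eq.trans ?_ hx
    refine (map_map G.obj jP k x).trans ?_
    exact congrArg (fun m : TP ⟶ (Over.map e).obj (Over.mk (𝟙 (V : Scheme.{u}))) => G.obj.map m.op x)
      (Over.OverMorphism.ext (by
        show h ≫ 𝟙 _ = h
        exact Category.comp_id h))
  haveI : IsIso φ := isIso_of_mono_of_epi φ
  exact ⟨X, ⟨asIso φ⟩⟩

theorem isIso_unit_eps {G : BigSite.Ab Ke S} (hG : InImg G) : IsIso ((BigSite.epsAdj Ke Kh S).unit.app G) := by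
  haveI : (incl S).Full := ⟨fun f => ⟨⟨f.hom⟩, rfl⟩⟩
  haveI : (incl S).Faithful := ⟨fun h => Sheaf.hom_ext (congrArg (fun m => m.hom) h)⟩
  obtain ⟨X, ⟨e⟩⟩ := exists_h_iso hG
  exact (BigSite.epsAdj Ke Kh S).isIso_unit_app_of_iso (X := X) e

end Groth.L23.HCmp

end
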