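import Groth.Agent.L23.HCmp.Induction
import Groth.Agent.L23.PhCmp.Zero
import Groth.Agent.L23.HCmp.Sheaf
import Groth.Agent.L27.Hom.ExtAdj
import Groth.Agent.L27.Fppf.PushComm
import Groth.Prelude.Def_EtCore

/-!
# Étale against h cohomology of torsion sheaves
-/

universe u

open CategoryTheory CategoryTheory.Limits CategoryTheory.Abelian AlgebraicGeometry Opposite

set_option autoImplicit false
set_option backward.defeqAttrib.useBackward true
set_option backward.isDefEq.respectTransparency false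
set_option backward.isDefEq.respectTransparency.types false
set_option linter.style.haveILetI false
set_option maxHeartbeats 800000

noncomputable section

namespace Groth.L23.HCmp

open Groth.L23.PhCmp (isTorsion_of_iso isTorsion_res)
open Groth.L10.EtDescent (InImg inImg_piEtPull)

local notation "Ke" => Scheme.etalePrecoverage
local notation "Kh" => HTop.hPrecoverage

variable {S : Scheme.{u}}

instance full_incl : (incl S).Full := ⟨fun f => ⟨⟨f.hom⟩, rfl⟩⟩

instance faithful_incl : (incl S).Faithful :=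
  ⟨fun h => Sheaf.hom_ext (congrArg (fun m => m.hom) h)⟩

/-- the comparison adjunction in two steps -/
def aHAdj' (S : Scheme.{u}) [HTop.AHCont S] :
    BigSite.piEtPull Ke S ⋙ BigSite.epsPull Ke Kh S ⊣ HTop.aHPush S :=
  (BigSite.piEtAdj Ke S).comp (BigSite.epsAdj Ke Kh S)

/-- the comparison inverse image in two steps -/
def aHPullIso (S : Scheme.{u}) [HTop.AHCont S] :
    BigSite.piEtPull Ke S ⋙ BigSite.epsPull Ke Kh S ≅ HTop.aHPull S :=
  (aHAdj' S).leftAdjointUniq (HTop.aHAdj S)

theorem preservesFiniteLimits_aHPull (S : Scheme.{u}) [HTop.AHCont S] : PreservesFiniteLimits (HTop.aHPull S) := by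
  haveI := Groth.L23.Big.preservesFiniteLimits_piEtPull Ke S
  haveI := preservesFiniteLimits_epsPull (S := S)
  haveI : PreservesFiniteLimits (BigSite.piEtPull Ke S ⋙ BigSite.epsPull Ke Kh S) := comp_preservesFiniteLimits _ _
  exact preservesFiniteLimits_of_natIso (aHPullIso S)

theorem inImg_aHPull [HTop.AHCont S] (F : EtCoh.Ab S) : InImg ((incl S).obj ((HTop.aHPull S).obj F)) :=
  (inImg_piEtPull F).of_iso (@asIso _ _ _ _ _ (isIso_unit_eps (inImg_piEtPull F)) ≪≫ (incl S).mapIso ((aHPullIso S).app F))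

theorem isTorsion_res_aHPull [HTop.AHCont S] (F : EtCoh.Ab S) (hF : EtCoh.IsTorsion F) :
    EtCoh.IsTorsion ((BigSite.resEt Ke S).obj ((incl S).obj ((HTop.aHPull S).obj F))) :=
  isTorsion_of_iso ((BigSite.resEt Ke S).mapIso
    (@asIso _ _ _ _ _ (isIso_unit_eps (inImg_piEtPull F)) ≪≫ (incl S).mapIso ((aHPullIso S).app F)))
    (isTorsion_res F hF)

/-- the unit is bijective -/
theorem isIso_aHAdj_unit (S : Scheme.{u}) [HTop.AHCont S] (F : EtCoh.Ab S) : IsIso ((HTop.aHAdj S).unit.app F) := by
  haveI := Groth.L23.Big.isIso_unit_small S AddCommGrpCat.{u + 1}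
  haveI := isIso_unit_eps (inImg_piEtPull F)
  have h : IsIso ((aHAdj' S).unit.app F) := by
    rw [aHAdj', Adjunction.comp_unit_app]
    haveI : IsIso ((BigSite.resEt Ke S).map ((BigSite.epsAdj Ke Kh S).unit.app ((BigSite.piEtPull Ke S).obj F))) :=
      inferInstance
    exact IsIso.comp_isIso' inferInstance this
  rw [← Adjunction.unit_leftAdjointUniq_hom_app (aHAdj' S) (HTop.aHAdj S) F]
  haveI : IsIso ((HTop.aHPush S).map (((aHAdj' S).leftAdjointUniq (HTop.aHAdj S)).hom.app F)) := inferInstance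
  exact IsIso.comp_isIso' h inferInstance

/-- resolutions of pulled back sheaves are exact on the small site in positive degrees -/
theorem isZero_RaHPush (S : Scheme.{u}) [HTop.AHCont S] (F : EtCoh.Ab S) (hF : EtCoh.IsTorsion F) (q : ℕ) (hq : 0 < q) :
    IsZero ((HTop.RaHPush S q).obj ((HTop.aHPull S).obj F)) := by
  obtain ⟨k, rfl⟩ := Nat.exists_eq_succ_of_ne_zero hq.ne'
  let L := injectiveResolution ((HTop.aHPull S).obj F)
  refine IsZero.of_iso ?_ (L.isoRightDerivedObj (HTop.aHPush S) (k + 1))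
  rw [HomologicalComplex.homologyFunctor_obj, ← HomologicalComplex.exactAt_iff_isZero_homology]
  have h : (inclN L).ExactAt (k + 1) :=
    ((inclN L).extend_exactAt_iff ComplexShape.embeddingUpNat (j := k + 1) rfl).1
      (exactAt_inclZ L (inImg_aHPull F) (isTorsion_res_aHPull F hF) ((k + 1 : ℕ) : ℤ) (by omega))
  exact h.map (BigSite.resEt Ke S)

/-- the h constant sheaf -/
def constAIso (S : Scheme.{u}) [HTop.AHCont S] :
    constantSheaf S.smallEtaleTopology AddCommGrpCat.{u + 1} ⋙ HTop.aHPull S ≅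
      constantSheaf (HTop.Jh S) AddCommGrpCat.{u + 1} :=
  (((EtCore.constAdj S).comp (HTop.aHAdj S)).ofNatIsoRight
      (Iso.refl ((sheafSections (HTop.Jh S) AddCommGrpCat.{u + 1}).obj (op (Over.mk (𝟙 S)))))).leftAdjointUniq
    (constantSheafAdj (HTop.Jh S) AddCommGrpCat.{u + 1} Over.mkIdTerminal)

/-- étale and h cohomology agree -/
theorem nonempty_H_equiv (S : Scheme.{u}) [HTop.AHCont S] (F : EtCoh.Ab S) (hF : EtCoh.IsTorsion F) (q : ℕ) :
    Nonempty (EtCoh.H S F q ≃+ HTop.HH S ((HTop.aHPull S).obj F) q) := by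
  haveI := preservesFiniteLimits_aHPull S
  haveI : PreservesFiniteColimits (HTop.aHPull S) :=
    haveI := (HTop.aHAdj S).leftAdjoint_preservesColimits
    inferInstance
  haveI : (HTop.aHPull S).Additive := (HTop.aHAdj S).left_adjoint_additive
  haveI : PreservesFiniteLimits (HTop.aHPush S) :=
    haveI := (HTop.aHAdj S).rightAdjoint_preservesLimits
    inferInstance
  haveI := isIso_aHAdj_unit S F
  let A := EtCoh.const S ℤ
  let Z := AddCommGrpCat.of (ULift.{u + 1} ℤ)
  let G := (HTop.aHPull S).obj F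
  have hb := Groth.L27.ExtAdj.bijective_phi.{u + 1, u + 1} (HTop.aHAdj S) (A := A) q G
    (fun r hr => isZero_RaHPush S F hF r hr)
  let ψ : HTop.HH S G q → Ext.{u + 1} ((HTop.aHPull S).obj A) G q := fun x =>
    (Ext.mk₀ ((constAIso S).app Z).hom).comp x (zero_add q)
  let e₁ : EtCoh.H S F q ≃+ Ext.{u + 1} A ((HTop.aHPush S).obj G) q :=
    { toFun := fun x => Ext.comp x (Ext.mk₀ ((HTop.aHAdj S).unit.app F)) (add_zero q)
      invFun := fun x => x.comp (Ext.mk₀ (inv ((HTop.aHAdj S).unit.app F))) (add_zero q)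
      left_inv := fun x => by simp
      right_inv := fun x => by simp
      map_add' := fun x y => Ext.add_comp _ _ _ _ }
  let e₂ : Ext.{u + 1} A ((HTop.aHPush S).obj G) q ≃+ Ext.{u + 1} ((HTop.aHPull S).obj A) G q :=
    AddEquiv.ofBijective
      (AddMonoidHom.mk' (Groth.L27.ExtAdj.phi.{u + 1, u + 1} (HTop.aHAdj S) (A := A) G q) fun x y => by
        simp [Groth.L27.ExtAdj.phi, Ext.mapExactFunctor_add, Ext.add_comp]) hb
  let e₃ : Ext.{u + 1} ((HTop.aHPull S).obj A) G q ≃+ HTop.HH S G q :=
    { toFun := fun x => (Ext.mk₀ ((constAIso S).app Z).inv).comp x (zero_add q)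
      invFun := ψ
      left_inv := fun x => by simp [ψ]
      right_inv := fun x => by simp [ψ]
      map_add' := fun x y => Ext.comp_add _ _ _ _ }
  exact ⟨e₁.trans (e₂.trans e₃)⟩

/-- an h resolution as a resolution on the big étale site -/
def inclRes {G0 : BigSite.Ab Kh S} (L : InjectiveResolution G0) (hG : InImg ((incl S).obj G0))
    (hT : EtCoh.IsTorsion ((BigSite.resEt Ke S).obj ((incl S).obj G0))) :
    InjectiveResolution ((incl S).obj G0) where
  cocomplex := inclN L
  ι := (CochainComplex.fromSingle₀Equiv _ _).symm ⟨inclAug L, inclAug_d L⟩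
  quasiIso := ⟨fun n => by
    cases n
    · rw [CochainComplex.quasiIsoAt₀_iff, ShortComplex.quasiIso_iff_of_zeros]
      · refine (ShortComplex.exact_and_mono_f_iff_of_iso ?_).2
          ⟨(exact_inclAug L).choose_spec, (exact_inclAug L).choose⟩
        exact ShortComplex.isoMk (Iso.refl _) (Iso.refl _) (Iso.refl _)
          (by
            refine (Category.id_comp _).trans (Eq.trans ?_ (Category.comp_id _).symm)
            first
              | exact CochainComplex.fromSingle₀Equiv_symm_apply_f_zero (C := inclN L) (inclAug L) (inclAug_d L)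
              | exact (CochainComplex.fromSingle₀Equiv_symm_apply_f_zero (C := inclN L) (inclAug L) (inclAug_d L)).symm)
          (by simp)
      all_goals first | rfl | exact (inclN L).shape _ _ (by simp)
    · rename_i n
      rw [quasiIsoAt_iff_exactAt]
      · exact ((inclN L).extend_exactAt_iff ComplexShape.embeddingUpNat (j := n + 1) rfl).1
          (exactAt_inclZ L hG hT ((n + 1 : ℕ) : ℤ) (by omega))
      · apply CochainComplex.exactAt_succ_single_obj⟩

/-- inverse images to the h sites commute with proper direct images -/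
theorem nonempty_aHPull_push {X Y : Scheme.{u}} (f : X ⟶ Y) [IsProper f] [HTop.AHCont X] [HTop.AHCont Y]
    [HTop.PullHCont f] (F : EtCoh.Ab X) :
    Nonempty ((HTop.aHPull Y).obj ((EtCoh.push f).obj F) ≅ (HTop.pushBigH f).obj ((HTop.aHPull X).obj F)) := by
  let jX := @asIso _ _ _ _ _ (isIso_unit_eps (inImg_piEtPull F)) ≪≫ (incl X).mapIso ((aHPullIso X).app F)
  let jY := @asIso _ _ _ _ _ (isIso_unit_eps (inImg_piEtPull ((EtCoh.push f).obj F))) ≪≫
    (incl Y).mapIso ((aHPullIso Y).app ((EtCoh.push f).obj F))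
  exact ⟨(incl Y).preimageIso (jY.symm ≪≫ (Groth.L23.Big.pushPiIso f).app F ≪≫
    (BigSite.pushBig Ke f AddCommGrpCat.{u + 1}).mapIso jX)⟩

/-- inverse images to the h sites commute with higher proper direct images of torsion sheaves -/
theorem nonempty_aHPull_Rpush {X Y : Scheme.{u}} (f : X ⟶ Y) [IsProper f] [HTop.AHCont X] [HTop.AHCont Y]
    [HTop.PullHCont f] (F : EtCoh.Ab X) (hF : EtCoh.IsTorsion F) (i : ℕ) :
    Nonempty ((HTop.aHPull Y).obj ((EtCoh.Rpush f i).obj F) ≅
      (HTop.RpushBigH f i).obj ((HTop.aHPull X).obj F)) := by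
  obtain ⟨e⟩ := Groth.L23.Big.nonempty_piEtPull_Rpush f F hF i
  haveI := preservesFiniteLimits_epsPull Y
  haveI : PreservesFiniteColimits (BigSite.epsPull Ke Kh Y) :=
    haveI := (BigSite.epsAdj Ke Kh Y).leftAdjoint_preservesColimits
    inferInstance
  haveI : (BigSite.epsPull Ke Kh Y).Additive := (BigSite.epsAdj Ke Kh Y).left_adjoint_additive
  haveI : IsIso (BigSite.epsAdj Ke Kh Y).counit := inferInstance
  let G0 := (HTop.aHPull X).obj F
  let j : (BigSite.piEtPull Ke X).obj F ≅ (incl X).obj G0 :=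
    @asIso _ _ _ _ _ (isIso_unit_eps (inImg_piEtPull F)) ≪≫ (incl X).mapIso ((aHPullIso X).app F)
  let L := injectiveResolution G0
  let Re := inclRes L (inImg_aHPull F) (isTorsion_res_aHPull F hF)
  let P := ((HTop.pushBigH f).mapHomologicalComplex (ComplexShape.up ℕ)).obj L.cocomplex
  let q : ((incl Y).mapHomologicalComplex (ComplexShape.up ℕ)).obj P ≅
      ((BigSite.pushBig Ke f AddCommGrpCat.{u + 1}).mapHomologicalComplex _).obj (inclN L) := Iso.refl _
  exact ⟨((aHPullIso Y).app _).symm ≪≫ (BigSite.epsPull Ke Kh Y).mapIso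
      (e ≪≫ (BigSite.RpushBig Ke f i).mapIso j ≪≫ Re.isoRightDerivedObj _ i ≪≫
        (HomologicalComplex.homologyFunctor _ _ i).mapIso q.symm) ≪≫
    (((((incl Y).mapHomologicalComplex _).obj P).sc i).mapHomologyIso (BigSite.epsPull Ke Kh Y)).symm ≪≫
      (HomologicalComplex.homologyFunctor _ _ i).mapIso
        ((NatIso.mapHomologicalComplex (asIso (BigSite.epsAdj Ke Kh Y).counit) (ComplexShape.up ℕ)).app P) ≪≫
    (L.isoRightDerivedObj (HTop.pushBigH f) i).symm⟩

end Groth.L23.HCmp

end
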